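import Cfsg.Agent.Spor.PX0
import Cfsg.Agent.Spor.LyE.E0

set_option autoImplicit false
set_option maxRecDepth 100000000
set_option Elab.async false

namespace Cfsg.Agent.Spor.LyR

theorem ne : LyE.A.neq (LyE.A.evw LyE.TT [0] LyE.A.one) LyE.A.one = true := by decide +kernel

theorem r1 : PA.isW LyE.A LyE.TT [0, 0, 0, 0, 0, 0, 0, 0] LyE.A.one = true := by decide +kernel

theorem r2 : PA.isW LyE.A LyE.TT [2, 2, 2, 2, 2] LyE.A.one = true := by decide +kernel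

theorem r3 : PA.isW LyE.A LyE.TT [0, 2, 0, 2, 0, 2, 0, 2] LyE.A.one = true := by decide +kernel

theorem r4 : PA.isW LyE.A LyE.TT [1, 1, 3, 0, 0, 2] LyE.A.one = true := by decide +kernel

theorem r5 : PA.isW LyE.A LyE.TT [1, 3, 0, 2, 1, 3, 0, 2, 1, 3, 0, 2] LyE.A.one = true := by decide +kernel

theorem r6 : PA.isW LyE.A LyE.TT [4, 4, 4, 4, 4] LyE.A.one = true := by decide +kernel

theorem r7 : PA.isW LyE.A LyE.TT [5, 1, 5, 0, 4, 1, 4, 0, 5, 1, 5, 0, 4, 1, 4, 0, 5, 1, 5, 0, 4, 1, 4, 0, 5, 1, 5, 0, 4, 1, 4, 0, 5, 1, 5, 0, 4, 1, 4, 0] LyE.A.one = true := by decide +kernel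

theorem r8 : PA.isW LyE.A LyE.TT [5, 1, 5, 0, 5, 1, 4, 0, 4, 1, 5, 0, 4, 1, 4, 0] LyE.A.one = true := by decide +kernel

theorem r9 : PA.isW LyE.A LyE.TT [1, 5, 5, 0, 5, 1, 4, 0, 4, 1, 4, 0, 5, 1, 5, 0, 4, 1, 4, 0] LyE.A.one = true := by decide +kernel

theorem r10 : PA.isW LyE.A LyE.TT [3, 5, 2, 1, 5, 0, 5, 1, 4, 0, 4, 3, 4, 2, 5, 1, 5, 0, 4, 1, 4, 0] LyE.A.one = true := by decide +kernel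

theorem r11 : PA.isW LyE.A LyE.TT [2, 5, 3, 1, 5, 0, 5, 1, 4, 0, 4, 2, 4, 3, 5, 1, 5, 0, 4, 1, 4, 0] LyE.A.one = true := by decide +kernel

theorem r12 : PA.isW LyE.A LyE.TT [5, 3, 5, 2, 4, 3, 4, 2, 5, 1, 5, 0, 4, 1, 4, 0, 5, 1, 5, 0, 4, 1, 4, 0] LyE.A.one = true := by decide +kernel

theorem r13 : PA.isW LyE.A LyE.TT [5, 2, 5, 3, 4, 2, 4, 3, 1, 5, 0, 5, 1, 4, 0, 4, 1, 5, 0, 5, 1, 4, 0, 4] LyE.A.one = true := by decide +kernel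

theorem r14 : PA.isW LyE.A LyE.TT [1, 5, 0, 3, 5, 2, 1, 4, 0, 3, 4, 2, 5, 1, 5, 0, 4, 1, 4, 0] LyE.A.one = true := by decide +kernel

theorem r15 : PA.isW LyE.A LyE.TT [1, 5, 0, 2, 5, 3, 1, 4, 0, 2, 4, 3] LyE.A.one = true := by decide +kernel

theorem r16 : PA.isW LyE.A LyE.TT [3, 5, 2, 2, 5, 3, 3, 4, 2, 2, 4, 3, 5, 1, 5, 0, 4, 1, 4, 0] LyE.A.one = true := by decide +kernel

theorem r17 : PA.isW LyE.A LyE.TT [1, 1, 4, 0, 0, 4, 4] LyE.A.one = true := by decide +kernel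

theorem r18 : PA.isW LyE.A LyE.TT [1, 3, 4, 2, 0, 2, 5, 3, 5, 3, 4, 4, 2] LyE.A.one = true := by decide +kernel

theorem r19 : PA.isW LyE.A LyE.TT [1, 2, 4, 3, 0, 2, 5, 3, 5, 2, 5, 3, 3, 4, 2, 1, 4, 0, 5] LyE.A.one = true := by decide +kernel

theorem r20 : PA.isW LyE.A LyE.TT [1, 5, 1, 5, 0, 4, 1, 4, 0, 5, 0, 5, 1, 4, 0, 4, 1, 5, 0, 5, 1, 4, 0, 4] LyE.A.one = true := by decide +kernel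

theorem r21 : PA.isW LyE.A LyE.TT [3, 1, 4, 0, 2, 2, 4, 3, 4, 2, 4, 3, 3, 5, 2, 1, 5, 0] LyE.A.one = true := by decide +kernel

theorem r22 : PA.isW LyE.A LyE.TT [3, 3, 4, 2, 4, 4, 2, 2, 5, 3, 5, 5] LyE.A.one = true := by decide +kernel

theorem r23 : PA.isW LyE.A LyE.TT [3, 5, 1, 5, 0, 4, 1, 4, 0, 2, 1, 5, 0, 5, 1, 4, 0, 4] LyE.A.one = true := by decide +kernel

theorem r24 : PA.isW LyE.A LyE.TT [3, 3, 1, 5, 0, 4, 1, 4, 0, 6, 4, 2, 0, 3, 6, 4, 6, 3, 3, 1, 5, 0, 4, 1, 4, 0, 6, 4, 2, 0, 3, 6, 4, 6] LyE.A.one = true := by decide +kernel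

theorem r25 : PA.isW LyE.A LyE.TT [7, 5, 7, 2, 1, 3, 5, 7, 1, 5, 0, 5, 1, 4, 0, 2, 2, 4, 3, 3, 1, 5, 0, 4, 1, 4, 0, 6, 4, 2, 0, 3, 6, 4, 6, 4, 3, 3, 5] LyE.A.one = true := by decide +kernel

theorem r26 : PA.isW LyE.A LyE.TT [7, 5, 7, 2, 1, 3, 5, 7, 1, 5, 0, 5, 1, 4, 0, 2, 4, 3, 1, 5, 0, 4, 1, 4, 0, 6, 4, 2, 0, 3, 6, 4, 6, 0, 2, 4, 3, 4, 1, 5, 3, 3] LyE.A.one = true := by decide +kernel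

theorem r27 : PA.isW LyE.A LyE.TT [7, 5, 7, 2, 1, 3, 5, 7, 1, 5, 0, 5, 1, 4, 0, 2, 2, 2, 4, 3, 3, 3, 1, 5, 0, 4, 1, 4, 0, 6, 4, 2, 0, 3, 6, 4, 6, 2, 5, 3, 3, 4, 3] LyE.A.one = true := by decide +kernel

theorem r28 : PA.isW LyE.A LyE.TT [7, 5, 7, 2, 1, 3, 5, 7, 1, 5, 0, 5, 1, 4, 0, 2, 2, 5, 1, 5, 0, 4, 1, 4, 0, 3, 3, 1, 5, 0, 4, 1, 4, 0, 6, 4, 2, 0, 3, 6, 4, 6, 2, 4, 3, 5, 3, 4, 2, 5] LyE.A.one = true := by decide +kernel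

theorem r29 : PA.isW LyE.A LyE.TT [3, 3, 1, 5, 0, 4, 1, 4, 0, 6, 4, 2, 0, 3, 6, 4, 6, 0, 0, 3, 3, 1, 5, 0, 4, 1, 4, 0, 6, 4, 2, 0, 3, 6, 4, 6, 2, 4, 3, 1, 5, 0, 5, 1, 4, 2, 1, 3, 3, 1] LyE.A.one = true := by decide +kernel

theorem r30 : PA.isW LyE.A LyE.TT [7, 5, 7, 2, 1, 3, 5, 7, 1, 5, 0, 5, 1, 4, 0, 2, 1, 5, 0, 4, 1, 4, 0, 6, 4, 2, 0, 3, 6, 4, 6, 2, 4, 4, 3, 3, 4, 2, 5] LyE.A.one = true := by decide +kernel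

theorem r31 : PA.isW LyE.A LyE.TT [3, 3, 1, 5, 0, 4, 1, 4, 0, 6, 4, 2, 0, 3, 6, 4, 6, 0, 2, 2, 0, 3, 0, 3, 3, 1, 5, 0, 4, 1, 4, 0, 6, 4, 2, 0, 3, 6, 4, 6, 2, 4, 3, 1, 5, 0, 5, 1, 4, 1] LyE.A.one = true := by decide +kernel

theorem r32 : PA.isW LyE.A LyE.TT [3, 3, 1, 5, 0, 4, 1, 4, 0, 6, 4, 2, 0, 3, 6, 4, 6, 1, 4, 0, 3, 3, 1, 5, 0, 4, 1, 4, 0, 6, 4, 2, 0, 3, 6, 4, 6, 1, 5, 0, 3, 3, 1, 5, 0, 4, 1, 4, 0, 6, 4, 2, 0, 3, 6, 4, 6, 1, 4, 0, 2, 5, 3, 0, 3, 4, 2, 0, 0, 0] LyE.A.one = true := by decide +kernel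

theorem r33 : PA.isW LyE.A LyE.TT [5, 7, 2, 1, 3, 5, 7, 1, 5, 0, 5, 1, 4, 0, 2, 1, 4, 7, 5, 7, 2, 1, 3, 5, 7, 1, 5, 0, 5, 1, 4, 0, 2, 2, 1, 7, 5, 7, 2, 1, 3, 5, 7, 1, 5, 0, 5, 1, 4, 0, 2, 2, 1, 5, 1, 5, 0, 4, 1, 4, 0, 2, 4, 3, 4, 2, 0, 3, 3, 1] LyE.A.one = true := by decide +kernel

theorem r34 : PA.isW LyE.A LyE.TT [6, 6, 1, 1, 1, 1] LyE.A.one = true := by decide +kernel

theorem r35 : PA.isW LyE.A LyE.TT [3, 7, 2, 6] LyE.A.one = true := by decide +kernel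

theorem r36 : PA.isW LyE.A LyE.TT [7, 0, 6, 1, 1, 1] LyE.A.one = true := by decide +kernel

theorem r37 : PA.isW LyE.A LyE.TT [6, 5, 1, 5, 0, 4, 1, 4, 0, 6, 5, 1, 5, 0, 4, 1, 4, 0, 6, 5, 1, 5, 0, 4, 1, 4, 0, 6, 5, 1, 5, 0, 4, 1, 4, 0, 6, 5, 1, 5, 0, 4, 1, 4, 0] LyE.A.one = true := by decide +kernel

theorem r38 : PA.isW LyE.A LyE.TT [6, 5, 1, 5, 0, 4, 1, 4, 0, 6, 1, 5, 0, 5, 1, 4, 0, 4, 6, 5, 1, 5, 0, 4, 1, 4, 1] LyE.A.one = true := by decide +kernel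

end Cfsg.Agent.Spor.LyR
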