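import Cfsg.Agent.Spor.LyG
import Cfsg.Agent.Spor.PX2
import Cfsg.Agent.Spor.LyR.C0

set_option autoImplicit false
set_option maxRecDepth 100000000
set_option Elab.async false

namespace Cfsg.Agent.Spor.LyR

theorem hp : ((LyE.A.p : ℕ) : ZMod 5) = 0 := by decide

noncomputable abbrev Ω : MRep LyE.A (ZMod 5) (GL (Fin LyE.A.d) (ZMod 5)) :=
  MRep.gl LyE.A (ZMod 5) LyE.sq hp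
theorem presF : Pres 4 0 Ly3906.RL (Ω.gen LyE.TT) :=
  ⟨fun _ h => absurd h (Nat.not_lt_zero _), (MRep.gl_gens LyE.gensOk).all_one (show AllP (fun w => PA.isW LyE.A LyE.TT w LyE.A.one = true) [[0, 0, 0, 0, 0, 0, 0, 0], [2, 2, 2, 2, 2], [0, 2, 0, 2, 0, 2, 0, 2], [1, 1, 3, 0, 0, 2], [1, 3, 0, 2, 1, 3, 0, 2, 1, 3, 0, 2], [4, 4, 4, 4, 4], [5, 1, 5, 0, 4, 1, 4, 0, 5, 1, 5, 0, 4, 1, 4, 0, 5, 1, 5, 0, 4, 1, 4, 0, 5, 1, 5, 0, 4, 1, 4, 0, 5, 1, 5, 0, 4, 1, 4, 0], [5, 1, 5, 0, 5, 1, 4, 0, 4, 1, 5, 0, 4, 1, 4, 0], [1, 5, 5, 0, 5, 1, 4, 0, 4, 1, 4, 0, 5, 1, 5, 0, 4, 1, 4, 0], [3, 5, 2, 1, 5, 0, 5, 1, 4, 0, 4, 3, 4, 2, 5, 1, 5, 0, 4, 1, 4, 0], [2, 5, 3, 1, 5, 0, 5, 1, 4, 0, 4, 2, 4, 3, 5, 1, 5, 0, 4, 1, 4, 0], [5, 3, 5, 2, 4, 3, 4, 2, 5,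 1, 5, 0, 4, 1, 4, 0, 5, 1, 5, 0, 4, 1, 4, 0], [5, 2, 5, 3, 4, 2, 4, 3, 1, 5, 0, 5, 1, 4, 0, 4, 1, 5, 0, 5, 1, 4, 0, 4], [1, 5, 0, 3, 5, 2, 1, 4, 0, 3, 4, 2, 5, 1, 5, 0, 4, 1, 4, 0], [1, 5, 0, 2, 5, 3, 1, 4, 0, 2, 4, 3], [3, 5, 2, 2, 5, 3, 3, 4, 2, 2, 4, 3, 5, 1, 5, 0, 4, 1, 4, 0], [1, 1, 4, 0, 0, 4, 4], [1, 3, 4, 2, 0, 2, 5, 3, 5, 3, 4, 4, 2], [1, 2, 4, 3, 0, 2, 5, 3, 5, 2, 5, 3, 3, 4, 2, 1, 4, 0, 5], [1, 5, 1, 5, 0, 4, 1, 4, 0, 5, 0, 5, 1, 4, 0, 4, 1, 5, 0, 5, 1, 4, 0, 4], [3, 1, 4, 0, 2, 2, 4, 3, 4, 2, 4, 3, 3, 5, 2, 1, 5, 0], [3, 3, 4, 2, 4, 4, 2, 2, 5, 3, 5, 5], [3, 5, 1, 5, 0, 4, 1, 4, 0, 2, 1, 5, 0, 5, 1, 4, 0, 4], [3, 3, 1, 5, 0, 4, 1, 4, 0, 6, 4, 2, 0, 3, 6, 4, 6, 3, 3, 1, 5, 0, 4, 1, 4, 0, 6, 4, 2, 0, 3, 6, 4, 6], [7,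 5, 7, 2, 1, 3, 5, 7, 1, 5, 0, 5, 1, 4, 0, 2, 2, 4, 3, 3, 1, 5, 0, 4, 1, 4, 0, 6, 4, 2, 0, 3, 6, 4, 6, 4, 3, 3, 5], [7, 5, 7, 2, 1, 3, 5, 7, 1, 5, 0, 5, 1, 4, 0, 2, 4, 3, 1, 5, 0, 4, 1, 4, 0, 6, 4, 2, 0, 3, 6, 4, 6, 0, 2, 4, 3, 4, 1, 5, 3, 3], [7, 5, 7, 2, 1, 3, 5, 7, 1, 5, 0, 5, 1, 4, 0, 2, 2, 2, 4, 3, 3, 3, 1, 5, 0, 4, 1, 4, 0, 6, 4, 2, 0, 3, 6, 4, 6, 2, 5, 3, 3, 4, 3], [7, 5, 7, 2, 1, 3, 5, 7, 1, 5, 0, 5, 1, 4, 0, 2, 2, 5, 1, 5, 0, 4, 1, 4, 0, 3, 3, 1, 5, 0, 4, 1, 4, 0, 6, 4, 2, 0, 3, 6, 4, 6, 2, 4, 3, 5, 3, 4, 2, 5], [3, 3, 1, 5, 0, 4, 1, 4, 0, 6, 4, 2, 0, 3, 6, 4, 6, 0, 0, 3, 3, 1, 5, 0, 4, 1, 4, 0, 6, 4, 2, 0, 3, 6, 4, 6, 2, 4, 3, 1, 5, 0, 5, 1, 4, 2, 1, 3, 3, 1], [7, 5, 7, 2, 1, 3, 5, 7, 1, 5, 0, 5, 1, 4, 0, 2, 1, 5, 0,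 4, 1, 4, 0, 6, 4, 2, 0, 3, 6, 4, 6, 2, 4, 4, 3, 3, 4, 2, 5], [3, 3, 1, 5, 0, 4, 1, 4, 0, 6, 4, 2, 0, 3, 6, 4, 6, 0, 2, 2, 0, 3, 0, 3, 3, 1, 5, 0, 4, 1, 4, 0, 6, 4, 2, 0, 3, 6, 4, 6, 2, 4, 3, 1, 5, 0, 5, 1, 4, 1], [3, 3, 1, 5, 0, 4, 1, 4, 0, 6, 4, 2, 0, 3, 6, 4, 6, 1, 4, 0, 3, 3, 1, 5, 0, 4, 1, 4, 0, 6, 4, 2, 0, 3, 6, 4, 6, 1, 5, 0, 3, 3, 1, 5, 0, 4, 1, 4, 0, 6, 4, 2, 0, 3, 6, 4, 6, 1, 4, 0, 2, 5, 3, 0, 3, 4, 2, 0, 0, 0], [5, 7, 2, 1, 3, 5, 7, 1, 5, 0, 5, 1, 4, 0, 2, 1, 4, 7, 5, 7, 2, 1, 3, 5, 7, 1, 5, 0, 5, 1, 4, 0, 2, 2, 1, 7, 5, 7, 2, 1, 3, 5, 7, 1, 5, 0, 5, 1, 4, 0, 2, 2, 1, 5, 1, 5, 0, 4, 1, 4, 0, 2, 4, 3, 4, 2, 0, 3, 3, 1], [6, 6, 1, 1, 1, 1], [3, 7, 2, 6], [7, 0, 6, 1, 1, 1], [6, 5, 1, 5, 0, 4, 1, 4, 0, 6, 5, 1, 5, 0, 4,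 1, 4, 0, 6, 5, 1, 5, 0, 4, 1, 4, 0, 6, 5, 1, 5, 0, 4, 1, 4, 0, 6, 5, 1, 5, 0, 4, 1, 4, 0], [6, 5, 1, 5, 0, 4, 1, 4, 0, 6, 1, 5, 0, 5, 1, 4, 0, 4, 6, 5, 1, 5, 0, 4, 1, 4, 1]] from AllP.cons r1 (AllP.cons r2 (AllP.cons r3 (AllP.cons r4 (AllP.cons r5 (AllP.cons r6 (AllP.cons r7 (AllP.cons r8 (AllP.cons r9 (AllP.cons r10 (AllP.cons r11 (AllP.cons r12 (AllP.cons r13 (AllP.cons r14 (AllP.cons r15 (AllP.cons r16 (AllP.cons r17 (AllP.cons r18 (AllP.cons r19 (AllP.cons r20 (AllP.cons r21 (AllP.cons r22 (AllP.cons r23 (AllP.cons r24 (AllP.cons r25 (AllP.cons r26 (AllP.cons r27 (AllP.cons r28 (AllP.cons r29 (AllP.cons r30 (AllP.cons r31 (AllP.cons r32 (AllP.cons r33 (AllP.cons r34 (AllP.cons r35 (AllP.cons r36 (AllP.cons r37 (AllP.cons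 r38 (AllP.nil)))))))))))))))))))))))))))))))))))))))⟩

theorem hom : ∃ ρ : Ly3906.P →* GL (Fin LyE.A.d) (ZMod 5), ∀ j < 4, ρ (Ly3906.p j) = Ω.gen LyE.TT j :=
  Ly3906.bound.exists_hom (by norm_num) Ly3906.cert.pres presF Ly3906.lbP

instance instCharP : CharP (ZMod 5) LyE.A.p := ZMod.charP 5

theorem inj : Function.Injective hom.choose :=
  haveI := Ly3906.simpleP
  inj_of_simple _ (x := ev (atm 4 Ly3906.p) [0]) (by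
    rw [ev_atm_map' hom.choose_spec]; exact (MRep.gl_gens LyE.gensOk).ne_one ne)

/-- the seven-dimensional representation -/
noncomputable def X : MRep LyE.A (ZMod 5) Ly3906.P := Ω.comp hom.choose inj
theorem gens : X.Gens LyE.TT (atm 4 Ly3906.p) := (MRep.gl_gens LyE.gensOk).comp inj hom.choose_spec

section
variable {G : Type} [Group G] {g : ℕ → G} (hg : Pres 5 0 LyG.RL g)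
include hg

theorem homψ : ∃ ψ : Ly3906.P →* G, ∀ j < 4, ψ (Ly3906.p j) = g j :=
  Ly3906.bound.exists_hom (by norm_num) Ly3906.cert.pres (LyG.pres4 hg) Ly3906.lbP

/-- the data of the double coset enumeration -/
noncomputable def Y : DCtx LyE.D (ZMod 5) Ly3906.P G := ⟨X, (homψ hg).choose, g 4⟩

theorem hψ : ∀ j < 4, (Y hg).ψ (Ly3906.p j) = g j := (homψ hg).choose_spec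
theorem hA : (Y hg).At 8 (atm 4 Ly3906.p) (atm 5 g) := DCtx.At.of gens (hψ hg) rfl
theorem upto : (Y hg).Upto 1323 := LyE.upto (hA hg) (LyG.bw hg)
theorem done : (Y hg).Done 4 Ly3906.p LyD.V.CL 5859000000 8835156 := LyD.V.done (upto hg) gens
theorem gtop (ht : gsub 5 g = ⊤) : ∀ K : Subgroup G, (Y hg).ψ.range ≤ K → (Y hg).t ∈ K → K = ⊤ :=
  DCtx.gen_top (hψ hg) rfl ht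
theorem range : (Y hg).ψ.range = gsub 4 g := range_eq_gsub (hψ hg) (gsub_lift 4 _)

end

end Cfsg.Agent.Spor.LyR
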